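import Mathlib
import Groth.Prelude.Def_W4c2quivmodsheafKron

/-! Kronecker modules: basic lemmas on (semi)stability. -/

namespace Groth.Agent.Helper7.Kron

open KronMod Module

universe u v w

variable {K : Type u} [Field K] {V : Type v} {W : Type w}
  [AddCommGroup V] [Module K V] [AddCommGroup W] [Module K W] {n : ℕ}

theorem isSemistable_iff (f : Fin n → (V →ₗ[K] W)) :
    IsSemistable f ↔ 0 < finrank K V + finrank K W ∧
      ∀ (V' : Submodule K V) (W' : Submodule K W), (∀ j, V'.map (f j) ≤ W') →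
        finrank K W * finrank K V' ≤ finrank K V * finrank K W' := by
  constructor
  · rintro ⟨h0, h⟩
    refine ⟨h0, fun V' W' hs => ?_⟩
    by_cases h1 : V' = ⊥ ∧ W' = ⊥
    · rw [h1.1, h1.2]; simp
    by_cases h2 : V' = ⊤ ∧ W' = ⊤
    · rw [h2.1, h2.2]; simp [mul_comm]
    exact h V' W' hs h1 h2
  · rintro ⟨h0, h⟩
    exact ⟨h0, fun V' W' hs _ _ => h V' W' hs⟩

theorem IsStable.isSemistable {f : Fin n → (V →ₗ[K] W)} (h : IsStable f) : IsSemistable f :=
  ⟨h.1, fun V' W' hs h1 h2 => (h.2 V' W' hs h1 h2).le⟩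

/-- the map `V → W^n`. -/
noncomputable def piMap (f : Fin n → (V →ₗ[K] W)) : V →ₗ[K] (Fin n → W) := LinearMap.pi f

/-- the map `V^n → W`. -/
noncomputable def sumMap (f : Fin n → (V →ₗ[K] W)) : (Fin n → V) →ₗ[K] W :=
  ∑ j, (f j) ∘ₗ (LinearMap.proj j)

@[simp] theorem piMap_apply (f : Fin n → (V →ₗ[K] W)) (v : V) (j : Fin n) :
    piMap f v j = f j v := rfl

@[simp] theorem sumMap_apply (f : Fin n → (V →ₗ[K] W)) (v : Fin n → V) :
    sumMap f v = ∑ j, f j (v j) := by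
  simp [sumMap]

theorem range_le_of_subrep (f : Fin n → (V →ₗ[K] W)) (V' : Submodule K V) (W' : Submodule K W)
    (hs : ∀ j, V'.map (f j) ≤ W') :
    (Submodule.pi Set.univ (fun _ : Fin n => V')).map (sumMap f) ≤ W' := by
  rintro w ⟨v, hv, rfl⟩
  rw [sumMap_apply]
  refine Submodule.sum_mem _ fun j _ => hs j ⟨v j, ?_, rfl⟩
  exact hv j (Set.mem_univ j)

theorem map_piMap_le_of_subrep (f : Fin n → (V →ₗ[K] W)) (V' : Submodule K V)
    (W' : Submodule K W) (hs : ∀ j, V'.map (f j) ≤ W') :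
    V'.map (piMap f) ≤ Submodule.pi Set.univ (fun _ : Fin n => W') := by
  rintro w ⟨v, hv, rfl⟩ j _
  exact hs j ⟨v, hv, rfl⟩

end Groth.Agent.Helper7.Kron
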