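import Groth.Agent.Lib.Helper7.Kron.Basic

/-! Kronecker modules: dimension vectors `(d, n d)` and `(n d, d)`. -/

set_option linter.unusedSectionVars false

namespace Groth.Agent.Helper7.Kron

open KronMod Module

universe u v w

variable {K : Type u} [Field K] {V : Type v} {W : Type w}
  [AddCommGroup V] [Module K V] [AddCommGroup W] [Module K W] {n : ℕ}

theorem finrank_fin_fun' (M : Type*) [AddCommGroup M] [Module K M] [FiniteDimensional K M] :
    finrank K (Fin n → M) = n * finrank K M := by
  rw [Module.finrank_pi_fintype]
  simp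

theorem range_sumMap (f : Fin n → (V →ₗ[K] W)) :
    ∀ j, (⊤ : Submodule K V).map (f j) ≤ LinearMap.range (sumMap f) := by
  classical
  rintro j w ⟨v, -, rfl⟩
  refine ⟨Pi.single j v, ?_⟩
  rw [sumMap_apply, Finset.sum_eq_single j]
  · simp
  · intro b _ hb; simp [Pi.single_eq_of_ne hb]
  · intro h; exact absurd (Finset.mem_univ j) h

theorem ker_piMap (f : Fin n → (V →ₗ[K] W)) :
    ∀ j, (LinearMap.ker (piMap f)).map (f j) ≤ (⊥ : Submodule K W) := by
  rintro j w ⟨v, hv, rfl⟩
  have : piMap f v = 0 := hv
  simpa using congrFun this j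

section
variable [FiniteDimensional K V] [FiniteDimensional K W]

theorem finrank_le_of_sumMap_injective (f : Fin n → (V →ₗ[K] W))
    (hinj : Function.Injective (sumMap f)) (V' : Submodule K V) (W' : Submodule K W)
    (hs : ∀ j, V'.map (f j) ≤ W') : n * finrank K V' ≤ finrank K W' := by
  let g : (Fin n → V') →ₗ[K] W' :=
    LinearMap.codRestrict W' (sumMap f ∘ₗ V'.subtype.compLeft (Fin n)) (by
      intro x
      simp only [LinearMap.coe_comp, Function.comp_apply, sumMap_apply]
      refine Submodule.sum_mem _ fun j _ => hs j ⟨x j, (x j).2, ?_⟩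
      simp)
  have hg : Function.Injective g := by
    intro x y hxy
    have h1 : sumMap f (V'.subtype.compLeft (Fin n) x) = sumMap f (V'.subtype.compLeft (Fin n) y) :=
      congrArg Subtype.val hxy
    have h2 := hinj h1
    funext j
    exact Subtype.ext (congrFun h2 j)
  have := LinearMap.finrank_le_finrank_of_injective hg
  rwa [finrank_fin_fun'] at this

theorem finrank_le_of_piMap_injective (f : Fin n → (V →ₗ[K] W))
    (hinj : Function.Injective (piMap f)) (V' : Submodule K V) (W' : Submodule K W)
    (hs : ∀ j, V'.map (f j) ≤ W') : finrank K V' ≤ n * finrank K W' := by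
  let g : V' →ₗ[K] (Fin n → W') :=
    LinearMap.pi fun j => LinearMap.codRestrict W' (f j ∘ₗ V'.subtype)
      (fun x => hs j ⟨x, x.2, rfl⟩)
  have hg : Function.Injective g := by
    intro x y hxy
    apply Subtype.ext
    apply hinj
    funext j
    exact congrArg Subtype.val (congrFun hxy j)
  have := LinearMap.finrank_le_finrank_of_injective hg
  rwa [finrank_fin_fun'] at this

/-- S15561 -/
theorem isSemistable_iff_bijective_sumMap (f : Fin n → (V →ₗ[K] W))
    (hV : 0 < finrank K V) (hW : finrank K W = n * finrank K V) :
    IsSemistable f ↔ Function.Bijective (sumMap f) := by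
  have hdim : finrank K (Fin n → V) = finrank K W := by rw [finrank_fin_fun', hW]
  rw [isSemistable_iff]
  constructor
  · rintro ⟨-, h⟩
    have h1 := h ⊤ (LinearMap.range (sumMap f)) (range_sumMap f)
    rw [finrank_top, mul_comm] at h1
    have h2 : finrank K W ≤ finrank K (LinearMap.range (sumMap f)) :=
      Nat.le_of_mul_le_mul_left h1 hV
    have hsurj : Function.Surjective (sumMap f) := by
      rw [← LinearMap.range_eq_top]
      exact Submodule.eq_top_of_finrank_eq (le_antisymm (Submodule.finrank_le _) h2)
    exact ⟨(LinearMap.injective_iff_surjective_of_finrank_eq_finrank hdim).mpr hsurj, hsurj⟩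
  · intro hb
    refine ⟨by omega, fun V' W' hs => ?_⟩
    have := finrank_le_of_sumMap_injective f hb.1 V' W' hs
    rw [hW]
    calc n * finrank K V * finrank K V' = finrank K V * (n * finrank K V') := by ring
      _ ≤ finrank K V * finrank K W' := Nat.mul_le_mul_left _ this

/-- S15572 -/
theorem isSemistable_iff_bijective_piMap (f : Fin n → (V →ₗ[K] W))
    (hW : 0 < finrank K W) (hV : finrank K V = n * finrank K W) :
    IsSemistable f ↔ Function.Bijective (piMap f) := by
  have hdim : finrank K V = finrank K (Fin n → W) := by rw [finrank_fin_fun', hV]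
  rw [isSemistable_iff]
  constructor
  · rintro ⟨-, h⟩
    have h1 := h (LinearMap.ker (piMap f)) ⊥ (ker_piMap f)
    rw [finrank_bot, mul_zero] at h1
    have h2 : finrank K (LinearMap.ker (piMap f)) = 0 := by
      rcases Nat.eq_zero_or_pos (finrank K (LinearMap.ker (piMap f))) with h0 | h0
      · exact h0
      · have := Nat.mul_pos hW h0; omega
    have hinj : Function.Injective (piMap f) := by
      rw [← LinearMap.ker_eq_bot]
      exact Submodule.finrank_eq_zero.mp h2
    exact ⟨hinj, (LinearMap.injective_iff_surjective_of_finrank_eq_finrank hdim).mp hinj⟩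
  · intro hb
    refine ⟨by omega, fun V' W' hs => ?_⟩
    have := finrank_le_of_piMap_injective f hb.1 V' W' hs
    rw [hV]
    calc finrank K W * finrank K V' ≤ finrank K W * (n * finrank K W') :=
          Nat.mul_le_mul_left _ this
      _ = n * finrank K W * finrank K W' := by ring

end

end Groth.Agent.Helper7.Kron
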