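import Groth.Agent.Lib.Helper7.Kron.Family

/-! Kronecker modules: duality (S15567). -/

set_option linter.unusedSectionVars false

namespace Groth.Agent.Helper7.Kron

open KronMod Module

universe u v w

variable {K : Type u} [Field K] {V : Type v} {W : Type w}
  [AddCommGroup V] [Module K V] [AddCommGroup W] [Module K W] {n : ℕ}

theorem subrep_coann (f : Fin n → (V →ₗ[K] W)) (Φ' : Submodule K (Module.Dual K W))
    (Ψ' : Submodule K (Module.Dual K V)) (hs : ∀ j, Φ'.map (f j).dualMap ≤ Ψ') :
    ∀ j, Ψ'.dualCoannihilator.map (f j) ≤ Φ'.dualCoannihilator := by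
  rintro j _ ⟨v, hv, rfl⟩
  rw [SetLike.mem_coe, Submodule.mem_dualCoannihilator] at hv
  rw [Submodule.mem_dualCoannihilator]
  intro φ hφ
  exact hv ((f j).dualMap φ) (hs j ⟨φ, hφ, rfl⟩)

theorem subrep_ann (f : Fin n → (V →ₗ[K] W)) (V' : Submodule K V) (W' : Submodule K W)
    (hs : ∀ j, V'.map (f j) ≤ W') :
    ∀ j, W'.dualAnnihilator.map (f j).dualMap ≤ V'.dualAnnihilator := by
  rintro j _ ⟨φ, hφ, rfl⟩
  rw [SetLike.mem_coe, Submodule.mem_dualAnnihilator] at hφ
  rw [Submodule.mem_dualAnnihilator]
  intro v hv
  exact hφ (f j v) (hs j ⟨v, hv, rfl⟩)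

variable [FiniteDimensional K V] [FiniteDimensional K W]

theorem eq_bot_of_finrank_zero {M : Type*} [AddCommGroup M] [Module K M] [FiniteDimensional K M]
    (S : Submodule K M) (h : finrank K S = 0) : S = ⊥ := Submodule.finrank_eq_zero.mp h

theorem finrank_eq_zero_of_eq_bot {M : Type*} [AddCommGroup M] [Module K M]
    (S : Submodule K M) (h : S = ⊥) : finrank K S = 0 := by rw [h, finrank_bot]

theorem finrank_eq_of_eq_top {M : Type*} [AddCommGroup M] [Module K M]
    (S : Submodule K M) (h : S = ⊤) : finrank K S = finrank K M := by rw [h, finrank_top]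

theorem isSemistable_dual_iff (f : Fin n → (V →ₗ[K] W)) :
    IsSemistable f ↔ IsSemistable (fun j => (f j).dualMap) := by
  rw [isSemistable_iff, isSemistable_iff]
  simp only [Subspace.dual_finrank_eq]
  constructor
  · rintro ⟨h0, hss⟩
    refine ⟨by omega, fun Φ' Ψ' hs => ?_⟩
    have h1 := hss _ _ (subrep_coann f Φ' Ψ' hs)
    have e1 := Subspace.finrank_add_finrank_dualCoannihilator_eq Ψ'
    have e2 := Subspace.finrank_add_finrank_dualCoannihilator_eq Φ'
    set v' := finrank K Ψ'.dualCoannihilator
    set w' := finrank K Φ'.dualCoannihilator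
    set ψ := finrank K Ψ'
    set φ := finrank K Φ'
    set dV := finrank K V
    set dW := finrank K W
    have p1 : dW * ψ + dW * v' = dW * dV := by rw [← mul_add, e1]
    have p2 : dV * φ + dV * w' = dV * dW := by rw [← mul_add, e2]
    have p3 : dW * dV = dV * dW := mul_comm _ _
    omega
  · rintro ⟨h0, hss⟩
    refine ⟨by omega, fun V' W' hs => ?_⟩
    have h1 := hss _ _ (subrep_ann f V' W' hs)
    have e1 := Subspace.finrank_add_finrank_dualAnnihilator_eq V'
    have e2 := Subspace.finrank_add_finrank_dualAnnihilator_eq W'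
    set v' := finrank K V'
    set w' := finrank K W'
    set ψ := finrank K V'.dualAnnihilator
    set φ := finrank K W'.dualAnnihilator
    set dV := finrank K V
    set dW := finrank K W
    have p1 : dW * v' + dW * ψ = dW * dV := by rw [← mul_add, e1]
    have p2 : dV * w' + dV * φ = dV * dW := by rw [← mul_add, e2]
    have p3 : dW * dV = dV * dW := mul_comm _ _
    omega

theorem isStable_dual_iff (f : Fin n → (V →ₗ[K] W)) :
    IsStable f ↔ IsStable (fun j => (f j).dualMap) := by
  unfold IsStable
  simp only [Subspace.dual_finrank_eq]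
  constructor
  · rintro ⟨h0, hss⟩
    refine ⟨by omega, fun Φ' Ψ' hs hn0 hn1 => ?_⟩
    have e1 := Subspace.finrank_add_finrank_dualCoannihilator_eq Ψ'
    have e2 := Subspace.finrank_add_finrank_dualCoannihilator_eq Φ'
    have h1 := hss _ _ (subrep_coann f Φ' Ψ' hs) (by
      rintro ⟨hb1, hb2⟩
      apply hn1
      have a1 := finrank_eq_zero_of_eq_bot _ hb1
      have a2 := finrank_eq_zero_of_eq_bot _ hb2
      constructor
      · exact Submodule.eq_top_of_finrank_eq (by rw [Subspace.dual_finrank_eq]; omega)
      · exact Submodule.eq_top_of_finrank_eq (by rw [Subspace.dual_finrank_eq]; omega)) (by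
      rintro ⟨hb1, hb2⟩
      apply hn0
      have a1 := finrank_eq_of_eq_top _ hb1
      have a2 := finrank_eq_of_eq_top _ hb2
      constructor
      · exact eq_bot_of_finrank_zero _ (by omega)
      · exact eq_bot_of_finrank_zero _ (by omega))
    set v' := finrank K Ψ'.dualCoannihilator
    set w' := finrank K Φ'.dualCoannihilator
    set ψ := finrank K Ψ'
    set φ := finrank K Φ'
    set dV := finrank K V
    set dW := finrank K W
    have p1 : dW * ψ + dW * v' = dW * dV := by rw [← mul_add, e1]
    have p2 : dV * φ + dV * w' = dV * dW := by rw [← mul_add, e2]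
    have p3 : dW * dV = dV * dW := mul_comm _ _
    omega
  · rintro ⟨h0, hss⟩
    refine ⟨by omega, fun V' W' hs hn0 hn1 => ?_⟩
    have e1 := Subspace.finrank_add_finrank_dualAnnihilator_eq V'
    have e2 := Subspace.finrank_add_finrank_dualAnnihilator_eq W'
    have h1 := hss _ _ (subrep_ann f V' W' hs) (by
      rintro ⟨hb1, hb2⟩
      apply hn1
      have a1 := finrank_eq_zero_of_eq_bot _ hb1
      have a2 := finrank_eq_zero_of_eq_bot _ hb2
      constructor
      · exact Submodule.eq_top_of_finrank_eq (by omega)
      · exact Submodule.eq_top_of_finrank_eq (by omega)) (by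
      rintro ⟨hb1, hb2⟩
      apply hn0
      have a1 := finrank_eq_of_eq_top _ hb1
      have a2 := finrank_eq_of_eq_top _ hb2
      rw [Subspace.dual_finrank_eq] at a1 a2
      constructor
      · exact eq_bot_of_finrank_zero _ (by omega)
      · exact eq_bot_of_finrank_zero _ (by omega))
    set v' := finrank K V'
    set w' := finrank K W'
    set ψ := finrank K V'.dualAnnihilator
    set φ := finrank K W'.dualAnnihilator
    set dV := finrank K V
    set dW := finrank K W
    have p1 : dW * v' + dW * ψ = dW * dV := by rw [← mul_add, e1]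
    have p2 : dV * w' + dV * φ = dV * dW := by rw [← mul_add, e2]
    have p3 : dW * dV = dV * dW := mul_comm _ _
    omega

end Groth.Agent.Helper7.Kron
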