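import Groth.Agent.Lib.Helper7.Kron.Dim

/-! Kronecker modules: the elementary family. -/

set_option linter.unusedSectionVars false

namespace Groth.Agent.Helper7.Kron

open KronMod Module

universe u v w

variable {K : Type u} [Field K] {V : Type v} {W : Type w}
  [AddCommGroup V] [Module K V] [AddCommGroup W] [Module K W] {n : ℕ}
  [FiniteDimensional K V] [FiniteDimensional K W]

theorem sumMap_single (f : Fin n → (V →ₗ[K] W)) (j : Fin n) (v : V) :
    sumMap f (Pi.single j v) = f j v := by
  classical
  rw [sumMap_apply, Finset.sum_eq_single j]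
  · simp
  · intro b _ hb; simp [Pi.single_eq_of_ne hb]
  · intro h; exact absurd (Finset.mem_univ j) h

/-- S15560 -/
theorem not_isSemistable_of_dim_out_of_range (f : Fin n → (V →ₗ[K] W))
    (hV : 0 < finrank K V) (hW : 0 < finrank K W)
    (h : n * finrank K V < finrank K W ∨ n * finrank K W < finrank K V) :
    ¬ IsSemistable f := by
  rw [isSemistable_iff]
  rintro ⟨-, hs⟩
  rcases h with h | h
  · have h1 := hs ⊤ (LinearMap.range (sumMap f)) (range_sumMap f)
    rw [finrank_top] at h1
    have h2 : finrank K (LinearMap.range (sumMap f)) ≤ n * finrank K V := by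
      have := LinearMap.finrank_range_le (sumMap f)
      rwa [finrank_fin_fun'] at this
    have h3 : finrank K V * finrank K (LinearMap.range (sumMap f))
        < finrank K V * finrank K W :=
      Nat.mul_lt_mul_of_pos_left (lt_of_le_of_lt h2 h) hV
    rw [mul_comm] at h1
    omega
  · have h1 := hs (LinearMap.ker (piMap f)) ⊥ (ker_piMap f)
    rw [finrank_bot, mul_zero] at h1
    have h2 := LinearMap.finrank_range_add_finrank_ker (piMap f)
    have h3 : finrank K (LinearMap.range (piMap f)) ≤ n * finrank K W := by
      have := Submodule.finrank_le (LinearMap.range (piMap f))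
      rwa [finrank_fin_fun'] at this
    have h4 : 0 < finrank K (LinearMap.ker (piMap f)) := by omega
    have := Nat.mul_pos hW h4
    omega

/-- S15571 -/
theorem isSemistable_of_exists_bijective_combination (f : Fin n → (V →ₗ[K] W)) (k : ℕ)
    (hk : 1 ≤ k) (hV : finrank K V = k) (hW : finrank K W = k) (z : Fin n → K)
    (hz : Function.Bijective ((∑ j, z j • f j : V →ₗ[K] W) : V → W)) :
    IsSemistable f := by
  rw [isSemistable_iff]
  refine ⟨by omega, fun V' W' hs => ?_⟩
  set g : V →ₗ[K] W := ∑ j, z j • f j with hg
  have h1 : V'.map g ≤ W' := by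
    rintro w ⟨v, hv, rfl⟩
    rw [hg, LinearMap.sum_apply]
    refine Submodule.sum_mem _ fun j _ => ?_
    rw [LinearMap.smul_apply]
    exact Submodule.smul_mem _ _ (hs j ⟨v, hv, rfl⟩)
  have h2 : finrank K (V'.map g) = finrank K V' :=
    (LinearEquiv.finrank_eq (Submodule.equivMapOfInjective g hz.1 V')).symm
  have h3 := Submodule.finrank_mono h1
  rw [hV, hW]
  exact Nat.mul_le_mul_left _ (by omega)

/-- S15562 -/
theorem exists_isSemistable_and_areIso_of_dim_eq_mul
    (hV : 0 < finrank K V) (hW : finrank K W = n * finrank K V) :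
    (∃ f : Fin n → (V →ₗ[K] W), IsSemistable f) ∧
    ∀ f f' : Fin n → (V →ₗ[K] W), IsSemistable f → IsSemistable f' → AreIso f f' := by
  have hdim : finrank K (Fin n → V) = finrank K W := by rw [finrank_fin_fun', hW]
  constructor
  · let Ψ : (Fin n → V) ≃ₗ[K] W := LinearEquiv.ofFinrankEq _ _ hdim
    refine ⟨fun j => Ψ.toLinearMap ∘ₗ LinearMap.single K (fun _ => V) j, ?_⟩
    rw [isSemistable_iff_bijective_sumMap _ hV hW]
    have : sumMap (fun j => Ψ.toLinearMap ∘ₗ LinearMap.single K (fun _ => V) j) = Ψ.toLinearMap := by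
      refine LinearMap.ext fun v => ?_
      simp only [sumMap_apply, LinearMap.coe_comp, LinearEquiv.coe_coe, Function.comp_apply,
        LinearMap.coe_single]
      rw [← map_sum]
      congr 1
      exact Finset.univ_sum_single v
    rw [this]
    exact Ψ.bijective
  · intro f f' hf hf'
    rw [isSemistable_iff_bijective_sumMap _ hV hW] at hf hf'
    let e := LinearEquiv.ofBijective (sumMap f) hf
    let e' := LinearEquiv.ofBijective (sumMap f') hf'
    refine ⟨LinearEquiv.refl K V, e.symm.trans e', fun j => ?_⟩
    ext v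
    simp only [LinearMap.coe_comp, LinearEquiv.coe_coe, Function.comp_apply,
      LinearEquiv.trans_apply, LinearEquiv.refl_apply]
    have h1 : e.symm (f j v) = Pi.single j v := by
      rw [LinearEquiv.symm_apply_eq]
      exact (sumMap_single f j v).symm
    rw [h1]
    exact sumMap_single f' j v

/-- S15569 -/
theorem exists_isSemistable_and_areIso_of_mul_eq_dim
    (hW : 0 < finrank K W) (hV : finrank K V = n * finrank K W) :
    (∃ f : Fin n → (V →ₗ[K] W), IsSemistable f) ∧
    ∀ f f' : Fin n → (V →ₗ[K] W), IsSemistable f → IsSemistable f' → AreIso f f' := by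
  have hdim : finrank K V = finrank K (Fin n → W) := by rw [finrank_fin_fun', hV]
  constructor
  · let Φ : V ≃ₗ[K] (Fin n → W) := LinearEquiv.ofFinrankEq _ _ hdim
    refine ⟨fun j => LinearMap.proj j ∘ₗ Φ.toLinearMap, ?_⟩
    rw [isSemistable_iff_bijective_piMap _ hW hV]
    have : piMap (fun j => (LinearMap.proj j : (Fin n → W) →ₗ[K] W) ∘ₗ Φ.toLinearMap)
        = Φ.toLinearMap := by
      ext v j
      simp
    rw [this]
    exact Φ.bijective
  · intro f f' hf hf'
    rw [isSemistable_iff_bijective_piMap _ hW hV] at hf hf'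
    let e := LinearEquiv.ofBijective (piMap f) hf
    let e' := LinearEquiv.ofBijective (piMap f') hf'
    refine ⟨e.trans e'.symm, LinearEquiv.refl K W, fun j => ?_⟩
    ext v
    simp only [LinearMap.coe_comp, LinearEquiv.coe_coe, Function.comp_apply,
      LinearEquiv.trans_apply, LinearEquiv.refl_apply]
    have h1 : piMap f' (e'.symm (e v)) = e v := e'.apply_symm_apply (e v)
    have h2 := congrFun h1 j
    rw [piMap_apply] at h2
    rw [h2]
    rfl

theorem finrank_span_singleton_le (w : W) : finrank K (Submodule.span K ({w} : Set W)) ≤ 1 := by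
  by_cases hw : w = 0
  · subst hw
    rw [Submodule.span_zero_singleton, finrank_bot]
    omega
  · exact (finrank_span_singleton hw).le

theorem eq_bot_or_eq_top_of_finrank_eq_one (h : finrank K V = 1) (V' : Submodule K V) :
    V' = ⊥ ∨ V' = ⊤ := by
  have h1 := Submodule.finrank_le V'
  rcases Nat.eq_zero_or_pos (finrank K V') with h0 | h0
  · exact Or.inl (Submodule.finrank_eq_zero.mp h0)
  · exact Or.inr (Submodule.eq_top_of_finrank_eq (by omega))

/-- S15563 -/
theorem isStable_iff_of_dim_eq_mul (f : Fin n → (V →ₗ[K] W))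
    (hV : 0 < finrank K V) (hW : finrank K W = n * finrank K V) :
    IsStable f ↔ (IsSemistable f ∧ finrank K V = 1) := by
  constructor
  · intro hst
    refine ⟨IsStable.isSemistable hst, ?_⟩
    by_contra hne
    have h2 : 2 ≤ finrank K V := by omega
    obtain ⟨v, hv⟩ : ∃ v : V, v ≠ 0 := by
      have : Nontrivial V := Module.nontrivial_of_finrank_pos hV
      exact exists_ne 0
    let V' : Submodule K V := Submodule.span K {v}
    let W' : Submodule K W := Submodule.span K (Set.range fun j => f j v)
    have hsub : IsSubrep f V' W' := by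
      intro j
      rw [Submodule.map_span, Set.image_singleton]
      exact Submodule.span_mono (by rintro _ rfl; exact ⟨j, rfl⟩)
    have hV' : finrank K V' = 1 := finrank_span_singleton hv
    have hW' : finrank K W' ≤ n := by
      have := finrank_range_le_card (R := K) (fun j => f j v)
      rw [Fintype.card_fin] at this
      exact this
    have h1 : ¬ (V' = ⊥ ∧ W' = ⊥) := by
      rintro ⟨hb, -⟩
      rw [hb, finrank_bot] at hV'
      omega
    have h3 : ¬ (V' = ⊤ ∧ W' = ⊤) := by
      rintro ⟨ht, -⟩
      rw [ht, finrank_top] at hV'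
      omega
    have := hst.2 V' W' hsub h1 h3
    rw [hV', hW, mul_one] at this
    have h4 : finrank K V * finrank K W' ≤ finrank K V * n := Nat.mul_le_mul_left _ hW'
    rw [mul_comm (finrank K V) n] at h4
    omega
  · rintro ⟨hss, h1⟩
    have hb := (isSemistable_iff_bijective_sumMap f hV hW).mp hss
    refine ⟨hss.1, fun V' W' hsub hn0 hn1 => ?_⟩
    rcases eq_bot_or_eq_top_of_finrank_eq_one h1 V' with hV' | hV'
    · have hW' : W' ≠ ⊥ := fun h => hn0 ⟨hV', h⟩
      have : 0 < finrank K W' := by
        rcases Nat.eq_zero_or_pos (finrank K W') with h0 | h0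
        · exact absurd (Submodule.finrank_eq_zero.mp h0) hW'
        · exact h0
      rw [hV', finrank_bot, mul_zero, h1, one_mul]
      exact this
    · exfalso
      apply hn1
      refine ⟨hV', ?_⟩
      have h2 := finrank_le_of_sumMap_injective f hb.1 V' W' hsub
      rw [hV', finrank_top, h1, mul_one] at h2
      rw [h1, mul_one] at hW
      exact Submodule.eq_top_of_finrank_eq (le_antisymm (Submodule.finrank_le _) (by omega))

/-- S15570 -/
theorem isStable_iff_of_mul_eq_dim (f : Fin n → (V →ₗ[K] W))
    (hW : 0 < finrank K W) (hV : finrank K V = n * finrank K W) :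
    IsStable f ↔ (IsSemistable f ∧ finrank K W = 1) := by
  constructor
  · intro hst
    refine ⟨IsStable.isSemistable hst, ?_⟩
    by_contra hne
    have h2 : 2 ≤ finrank K W := by omega
    obtain ⟨w, hw⟩ : ∃ w : W, w ≠ 0 := by
      have : Nontrivial W := Module.nontrivial_of_finrank_pos hW
      exact exists_ne 0
    obtain ⟨φ, hφ⟩ : ∃ φ : Module.Dual K W, φ w ≠ 0 := by
      by_contra hcon
      simp only [not_exists, not_not] at hcon
      exact hw ((Module.forall_dual_apply_eq_zero_iff K w).mp hcon)
    have hφsurj : LinearMap.range φ = ⊤ := by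
      rw [LinearMap.range_eq_top]
      intro c
      exact ⟨(c / φ w) • w, by simp [hφ]⟩
    let W' : Submodule K W := LinearMap.ker φ
    let χ : V →ₗ[K] (Fin n → K) := LinearMap.pi fun j => φ ∘ₗ f j
    let V' : Submodule K V := LinearMap.ker χ
    have hsub : IsSubrep f V' W' := by
      rintro j _ ⟨v, hv, rfl⟩
      have : χ v = 0 := hv
      exact congrFun this j
    have hW'dim : finrank K W' + 1 = finrank K W := by
      show finrank K (LinearMap.ker φ) + 1 = finrank K W
      have := LinearMap.finrank_range_add_finrank_ker φ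
      rw [hφsurj, finrank_top, Module.finrank_self] at this
      omega
    have hχ := LinearMap.finrank_range_add_finrank_ker χ
    have hχr : finrank K (LinearMap.range χ) ≤ n := by
      have := Submodule.finrank_le (LinearMap.range χ)
      simpa using this
    have h1 : ¬ (V' = ⊥ ∧ W' = ⊥) := by
      rintro ⟨-, hb⟩
      rw [hb, finrank_bot] at hW'dim
      omega
    have h3 : ¬ (V' = ⊤ ∧ W' = ⊤) := by
      rintro ⟨-, ht⟩
      rw [ht, finrank_top] at hW'dim
      omega
    have hlt := hst.2 V' W' hsub h1 h3
    -- arithmetic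
    set a := finrank K V' with ha
    set r := finrank K (LinearMap.range χ) with hr
    set w' := finrank K W' with hw'
    set dW := finrank K W with hdW
    set dV := finrank K V with hdV
    have e1 : dW * a + dW * r = dW * dV := by rw [← mul_add, add_comm a r, hχ]
    have e2 : dW * r ≤ dV := by
      rw [hV, mul_comm n dW]; exact Nat.mul_le_mul_left _ hχr
    have e3 : dV * w' + dV = dV * dW := by rw [← hW'dim]; ring
    have e4 : dW * dV = dV * dW := mul_comm _ _
    omega
  · rintro ⟨hss, h1⟩
    have hb := (isSemistable_iff_bijective_piMap f hW hV).mp hss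
    refine ⟨hss.1, fun V' W' hsub hn0 hn1 => ?_⟩
    rcases eq_bot_or_eq_top_of_finrank_eq_one h1 W' with hW' | hW'
    · exfalso
      apply hn0
      refine ⟨?_, hW'⟩
      have h2 := finrank_le_of_piMap_injective f hb.1 V' W' hsub
      rw [hW', finrank_bot, mul_zero] at h2
      exact Submodule.finrank_eq_zero.mp (by omega)
    · have hV' : V' ≠ ⊤ := fun h => hn1 ⟨h, hW'⟩
      have := Submodule.finrank_lt hV'
      rw [hW', finrank_top, h1, one_mul, mul_one]
      exact this

/-- S15564 -/
theorem isSemistable_and_isStable_iff_ne_zero_of_dim_one (f : Fin n → (V →ₗ[K] W))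
    (hV : finrank K V = 1) (hW : finrank K W = 1) :
    (IsSemistable f ↔ f ≠ 0) ∧ (IsStable f ↔ f ≠ 0) := by
  have hA : IsSemistable f → f ≠ 0 := by
    rintro hss rfl
    rw [isSemistable_iff] at hss
    have := hss.2 ⊤ ⊥ (by intro j; simp)
    rw [finrank_top, finrank_bot, hV, hW] at this
    omega
  have hB : f ≠ 0 → IsStable f := by
    intro hf
    obtain ⟨j, hj⟩ : ∃ j, f j ≠ 0 := by
      by_contra hcon
      simp only [not_exists, not_not] at hcon
      exact hf (funext hcon)
    obtain ⟨v, hv⟩ : ∃ v, f j v ≠ 0 := by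
      by_contra hcon
      simp only [not_exists, not_not] at hcon
      exact hj (LinearMap.ext hcon)
    refine ⟨by omega, fun V' W' hsub hn0 hn1 => ?_⟩
    rcases eq_bot_or_eq_top_of_finrank_eq_one hV V' with hV' | hV'
    · have hW' : W' = ⊤ := by
        rcases eq_bot_or_eq_top_of_finrank_eq_one hW W' with h | h
        · exact absurd ⟨hV', h⟩ hn0
        · exact h
      rw [hV', hW', finrank_bot, finrank_top, hV, hW]
      omega
    · exfalso
      apply hn1
      refine ⟨hV', ?_⟩
      rcases eq_bot_or_eq_top_of_finrank_eq_one hW W' with h | h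
      · exfalso
        have : f j v ∈ W' := hsub j ⟨v, by rw [hV']; trivial, rfl⟩
        rw [h] at this
        exact hv ((Submodule.mem_bot K).mp this)
      · exact h
  exact ⟨⟨hA, fun h => IsStable.isSemistable (hB h)⟩, ⟨fun h => hA (IsStable.isSemistable h), hB⟩⟩

end Groth.Agent.Helper7.Kron
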