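import Groth.Agent.Lib.Helper7.Kron.Family

/-! Kronecker modules: S15565 and S15566. -/

set_option linter.unusedSectionVars false

namespace Groth.Agent.Helper7.Kron

open KronMod Module Submodule

universe u v w

variable {K : Type u} [Field K] {V : Type v} {W : Type w}
  [AddCommGroup V] [Module K V] [AddCommGroup W] [Module K W] {n : ℕ}
  [FiniteDimensional K V] [FiniteDimensional K W]

/-- S15565 -/
theorem not_isStable_two_arrows [IsAlgClosed K] (f : Fin 2 → (V →ₗ[K] W)) (k : ℕ) (hk : 2 ≤ k)
    (hV : finrank K V = k) (hW : finrank K W = k) : ¬ IsStable f := by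
  intro hst
  obtain ⟨v, w, hv, h0, h1⟩ :
      ∃ v w, v ≠ 0 ∧ f 0 v ∈ span K ({w} : Set W) ∧ f 1 v ∈ span K ({w} : Set W) := by
    by_cases hinj : Function.Injective (f 0)
    · have hbij : Function.Bijective (f 0) :=
        ⟨hinj, (LinearMap.injective_iff_surjective_of_finrank_eq_finrank
          (hV.trans hW.symm)).mp hinj⟩
      let e := LinearEquiv.ofBijective (f 0) hbij
      let T : Module.End K V := e.symm.toLinearMap ∘ₗ f 1
      have : Nontrivial V := Module.nontrivial_of_finrank_pos (R := K) (M := V) (by omega)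
      obtain ⟨c, hc⟩ := Module.End.exists_eigenvalue T
      obtain ⟨v, hv⟩ := hc.exists_hasEigenvector
      refine ⟨v, f 0 v, hv.2, mem_span_singleton_self _, ?_⟩
      have hT : T v = c • v := hv.apply_eq_smul
      have h2 : f 1 v = c • f 0 v := by
        have h3 : e.symm (f 1 v) = c • v := hT
        rw [LinearEquiv.symm_apply_eq] at h3
        rw [h3, map_smul]
        rfl
      rw [h2]
      exact smul_mem _ _ (mem_span_singleton_self _)
    · have : ¬ ∀ a, f 0 a = 0 → a = 0 := fun h => hinj ((injective_iff_map_eq_zero (f 0)).mpr h)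
      simp only [not_forall] at this
      obtain ⟨v, hv0, hv⟩ := this
      exact ⟨v, f 1 v, hv, by rw [hv0]; exact zero_mem _, mem_span_singleton_self _⟩
  let V' : Submodule K V := span K {v}
  let W' : Submodule K W := span K {w}
  have hsub : IsSubrep f V' W' := by
    intro j
    rw [Submodule.map_span, Set.image_singleton, span_le, Set.singleton_subset_iff]
    fin_cases j
    · exact h0
    · exact h1
  have hV' : finrank K V' = 1 := finrank_span_singleton hv
  have hW' : finrank K W' ≤ 1 := finrank_span_singleton_le w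
  have hn0 : ¬ (V' = ⊥ ∧ W' = ⊥) := by
    rintro ⟨hb, -⟩
    rw [hb, finrank_bot] at hV'
    omega
  have hn1 : ¬ (V' = ⊤ ∧ W' = ⊤) := by
    rintro ⟨ht, -⟩
    rw [ht, finrank_top] at hV'
    omega
  have := hst.2 V' W' hsub hn0 hn1
  rw [hV', hW, hV] at this
  have h4 : k * finrank K W' ≤ k * 1 := Nat.mul_le_mul_left _ hW'
  omega

/-- linear combination of the arrows -/
noncomputable def comb (f : Fin n → (V →ₗ[K] W)) (z : Fin n → K) : V →ₗ[K] W := ∑ j, z j • f j

theorem comb_add (f : Fin n → (V →ₗ[K] W)) (z z' : Fin n → K) :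
    comb f (z + z') = comb f z + comb f z' := by
  simp [comb, add_smul, Finset.sum_add_distrib]

theorem comb_single (f : Fin n → (V →ₗ[K] W)) (j : Fin n) : comb f (Pi.single j 1) = f j := by
  classical
  unfold comb
  rw [Finset.sum_eq_single j]
  · simp
  · intro b _ hb; simp [Pi.single_eq_of_ne hb]
  · intro h; exact absurd (Finset.mem_univ j) h

theorem exists_ker_of_not_injective (h : V →ₗ[K] W) (hni : ¬ Function.Injective h) :
    ∃ x, h x = 0 ∧ x ≠ 0 := by
  have : ¬ ∀ a, h a = 0 → a = 0 := fun h' => hni ((injective_iff_map_eq_zero h).mpr h')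
  simp only [not_forall] at this
  obtain ⟨v, hv0, hv⟩ := this
  exact ⟨v, hv0, hv⟩

theorem finrank_range_le_one (hV : finrank K V = 2) (h : V →ₗ[K] W)
    (hni : ¬ Function.Injective h) : finrank K (LinearMap.range h) ≤ 1 := by
  have e := LinearMap.finrank_range_add_finrank_ker h
  have : 0 < finrank K (LinearMap.ker h) := by
    rcases Nat.eq_zero_or_pos (finrank K (LinearMap.ker h)) with h0 | h0
    · exact absurd (LinearMap.ker_eq_bot.mp (Submodule.finrank_eq_zero.mp h0)) hni
    · exact h0
  omega

theorem range_eq_span (hV : finrank K V = 2) (h : V →ₗ[K] W) (hni : ¬ Function.Injective h)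
    (u : V) (hu : h u ≠ 0) : LinearMap.range h = span K {h u} := by
  symm
  apply Submodule.eq_of_le_of_finrank_le
  · rw [span_le, Set.singleton_subset_iff]; exact LinearMap.mem_range_self h u
  · rw [finrank_span_singleton hu]; exact finrank_range_le_one hV h hni

theorem ker_eq_span (hV : finrank K V = 2) (h : V →ₗ[K] W) (u : V) (hu : h u ≠ 0) (x : V)
    (hx : x ≠ 0) (hx0 : h x = 0) : LinearMap.ker h = span K {x} := by
  symm
  apply Submodule.eq_of_le_of_finrank_le
  · rw [span_le, Set.singleton_subset_iff]; exact hx0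
  · rw [finrank_span_singleton hx]
    have e := LinearMap.finrank_range_add_finrank_ker h
    have : 0 < finrank K (LinearMap.range h) := by
      rcases Nat.eq_zero_or_pos (finrank K (LinearMap.range h)) with h0 | h0
      · exfalso
        have hb := Submodule.finrank_eq_zero.mp h0
        have : h u ∈ LinearMap.range h := LinearMap.mem_range_self h u
        rw [hb] at this
        exact hu ((Submodule.mem_bot K).mp this)
      · exact h0
    omega

theorem key_mem (hV : finrank K V = 2) (f : Fin n → (V →ₗ[K] W))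
    (hni : ∀ z, ¬ Function.Injective (comb f z)) (z₀ : Fin n → K) (v₀ u : V) (hv₀ : v₀ ≠ 0)
    (hg0 : comb f z₀ v₀ = 0) (hu : comb f z₀ u ≠ 0) :
    ∀ z, comb f z v₀ ∈ span K ({comb f z₀ u} : Set W) := by
  intro z
  by_contra hnot
  have hrg := range_eq_span hV (comb f z₀) (hni z₀) u hu
  have hhv : comb f z v₀ ≠ 0 := fun h0 => hnot (by rw [h0]; exact zero_mem _)
  have hrh := range_eq_span hV (comb f z) (hni z) v₀ hhv
  have hgh := hni (z₀ + z)
  rw [comb_add] at hgh
  obtain ⟨x, hx0, hx⟩ := exists_ker_of_not_injective _ hgh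
  rw [LinearMap.add_apply] at hx0
  have h1 : comb f z x ∈ span K ({comb f z₀ u} : Set W) := by
    have : comb f z x = - comb f z₀ x := by
      rw [eq_neg_iff_add_eq_zero, add_comm]; exact hx0
    rw [this, ← hrg]
    exact neg_mem (LinearMap.mem_range_self _ x)
  have h2 : comb f z x ∈ span K ({comb f z v₀} : Set W) := by
    rw [← hrh]; exact LinearMap.mem_range_self _ x
  have hhx : comb f z x = 0 := by
    obtain ⟨b, hb⟩ := mem_span_singleton.mp h2
    by_cases hb0 : b = 0
    · rw [← hb, hb0, zero_smul]
    · exfalso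
      apply hnot
      have : comb f z v₀ = b⁻¹ • comb f z x := by
        rw [← hb, smul_smul, inv_mul_cancel₀ hb0, one_smul]
      rw [this]
      exact smul_mem _ _ h1
  have hgx : comb f z₀ x = 0 := by rwa [hhx, add_zero] at hx0
  have hk := ker_eq_span hV (comb f z₀) u hu x hx hgx
  have : v₀ ∈ span K ({x} : Set V) := by rw [← hk]; exact LinearMap.mem_ker.mpr hg0
  obtain ⟨c, hc⟩ := mem_span_singleton.mp this
  apply hhv
  rw [← hc, map_smul, hhx, smul_zero]

theorem alternatives (hV : finrank K V = 2) (f : Fin n → (V →ₗ[K] W))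
    (hni : ∀ z, ¬ Function.Injective (comb f z)) :
    (∃ v : V, v ≠ 0 ∧ ∀ z, comb f z v = 0) ∨
      (∃ w : W, ∀ z v, comb f z v ∈ span K ({w} : Set W)) := by
  have : Nontrivial V := Module.nontrivial_of_finrank_pos (R := K) (M := V) (by omega)
  by_cases hall : ∀ z, comb f z = 0
  · left
    obtain ⟨v, hv⟩ := exists_ne (0 : V)
    exact ⟨v, hv, fun z => by rw [hall z]; rfl⟩
  · simp only [not_forall] at hall
    obtain ⟨z₀, hz₀⟩ := hall
    obtain ⟨u, hu⟩ : ∃ u, comb f z₀ u ≠ 0 := by
      by_contra hc
      simp only [not_exists, not_not] at hc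
      exact hz₀ (LinearMap.ext hc)
    obtain ⟨v₀, hg0, hv₀⟩ := exists_ker_of_not_injective _ (hni z₀)
    have hclaim := key_mem hV f hni z₀ v₀ u hv₀ hg0 hu
    by_cases hall2 : ∀ z, comb f z v₀ = 0
    · left; exact ⟨v₀, hv₀, hall2⟩
    · right
      simp only [not_forall] at hall2
      obtain ⟨z₁, hz₁⟩ := hall2
      obtain ⟨v₁, h10, hv₁⟩ := exists_ker_of_not_injective _ (hni z₁)
      have hclaim2 := key_mem hV f hni z₁ v₁ v₀ hv₁ h10 hz₁
      have hsp : span K ({comb f z₁ v₀} : Set W) ≤ span K ({comb f z₀ u} : Set W) := by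
        rw [span_le, Set.singleton_subset_iff]; exact hclaim z₁
      refine ⟨comb f z₀ u, fun z => ?_⟩
      let S : Submodule K V := (span K ({comb f z₀ u} : Set W)).comap (comb f z)
      have hv₀S : v₀ ∈ S := hclaim z
      have hv₁S : v₁ ∈ S := hsp (hclaim2 z)
      have hlt : span K ({v₁} : Set V) < S := by
        refine lt_of_le_of_ne (span_le.mpr (Set.singleton_subset_iff.mpr hv₁S)) ?_
        intro heq
        have : v₀ ∈ span K ({v₁} : Set V) := by rw [heq]; exact hv₀S
        obtain ⟨c, hc⟩ := mem_span_singleton.mp this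
        apply hz₁
        rw [← hc, map_smul, h10, smul_zero]
      have h3 := Submodule.finrank_lt_finrank_of_lt hlt
      rw [finrank_span_singleton hv₁] at h3
      have h4 := Submodule.finrank_le S
      have hS : S = ⊤ := Submodule.eq_top_of_finrank_eq (by omega)
      intro v
      have : v ∈ S := by rw [hS]; trivial
      exact this

/-- S15566 -/
theorem exists_bijective_combination_dim_two (f : Fin n → (V →ₗ[K] W))
    (hV : finrank K V = 2) (hW : finrank K W = 2) (hf : IsSemistable f) :
    ∃ z : Fin n → K, Function.Bijective (comb f z) := by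
  by_contra hcon
  simp only [not_exists] at hcon
  have hni : ∀ z, ¬ Function.Injective (comb f z) := fun z hi =>
    hcon z ⟨hi, (LinearMap.injective_iff_surjective_of_finrank_eq_finrank
      (hV.trans hW.symm)).mp hi⟩
  rw [isSemistable_iff] at hf
  rcases alternatives hV f hni with ⟨v, hv, h⟩ | ⟨w, h⟩
  · have := hf.2 (span K {v}) ⊥ (by
      intro j
      rw [Submodule.map_span, Set.image_singleton, span_le, Set.singleton_subset_iff]
      have := h (Pi.single j 1)
      rw [comb_single] at this
      rw [this]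
      exact zero_mem _)
    rw [finrank_span_singleton hv, finrank_bot, hW, hV] at this
    omega
  · have := hf.2 ⊤ (span K {w}) (by
      rintro j _ ⟨v, -, rfl⟩
      have := h (Pi.single j 1) v
      rwa [comb_single] at this)
    rw [finrank_top, hV, hW] at this
    have := finrank_span_singleton_le (K := K) w
    omega

end Groth.Agent.Helper7.Kron
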