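import Groth.Agent.Lib.Helper7.Kron.Pencil

/-! Kronecker modules with two arrows: S19551. -/

set_option linter.unusedSectionVars false

namespace Groth.Agent.Helper7.Kron

open KronMod Module Submodule Polynomial
open scoped Matrix

universe u v w

variable {K : Type u} [Field K] {V : Type v} {W : Type w}
  [AddCommGroup V] [Module K V] [AddCommGroup W] [Module K W]
  [FiniteDimensional K V] [FiniteDimensional K W]

/-- a polynomial family of kernel vectors gives a destabilising subrepresentation. -/
theorem not_isSemistable_of_chain (f : Fin 2 → (V →ₗ[K] W)) (k : ℕ) (hk : 1 ≤ k)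
    (hV : finrank K V = k) (hW : finrank K W = k) (x : ℕ → V)
    (h0 : f 0 (x 0) = 0) (hs : ∀ i, f 0 (x (i + 1)) + f 1 (x i) = 0) (hx : ∃ m, x m ≠ 0) :
    ¬ IsSemistable f := by
  classical
  rw [isSemistable_iff]
  rintro ⟨-, hss⟩
  let i₀ := Nat.find hx
  have hi₀ : x i₀ ≠ 0 := Nat.find_spec hx
  have hlt : ∀ m, m < i₀ → x m = 0 := fun m hm => by
    have := Nat.find_min hx hm
    simpa using this
  have hker : f 0 (x i₀) = 0 := by
    rcases Nat.eq_zero_or_pos i₀ with h | h
    · rw [h]; exact h0
    · obtain ⟨m, hm⟩ : ∃ m, i₀ = m + 1 := ⟨i₀ - 1, by omega⟩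
      have h1 := hs m
      rw [hlt m (by omega), map_zero, add_zero] at h1
      rw [hm]; exact h1
  let V' : Submodule K V := span K (Set.range x)
  let W' : Submodule K W := V'.map (f 0)
  have hxV' : ∀ i, x i ∈ V' := fun i => subset_span ⟨i, rfl⟩
  have hsub : ∀ j, V'.map (f j) ≤ W' := by
    intro j
    fin_cases j
    · exact le_refl _
    · show V'.map (f 1) ≤ W'
      rw [Submodule.map_span, span_le]
      rintro _ ⟨_, ⟨i, rfl⟩, rfl⟩
      have h1 : f 1 (x i) = - f 0 (x (i + 1)) := by
        rw [eq_neg_iff_add_eq_zero, add_comm]; exact hs i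
      rw [h1]
      exact neg_mem ⟨x (i + 1), hxV' (i + 1), rfl⟩
  have h1 := hss V' W' hsub
  rw [hV, hW] at h1
  have h2 : finrank K W' < finrank K V' := by
    let g : V' →ₗ[K] W := (f 0).domRestrict V'
    have e := LinearMap.finrank_range_add_finrank_ker g
    have hr : LinearMap.range g = W' := LinearMap.range_domRestrict _ _
    have hpos : 0 < finrank K (LinearMap.ker g) := by
      rcases Nat.eq_zero_or_pos (finrank K (LinearMap.ker g)) with h | h
      · exfalso
        have hb := Submodule.finrank_eq_zero.mp h
        have hm : (⟨x i₀, hxV' i₀⟩ : V') ∈ LinearMap.ker g := by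
          rw [LinearMap.mem_ker]; exact hker
        rw [hb] at hm
        have := (Submodule.mem_bot K).mp hm
        exact hi₀ (congrArg Subtype.val this)
      · exact h
    rw [hr] at e
    omega
  have h3 : k * finrank K W' < k * finrank K V' := Nat.mul_lt_mul_of_pos_left h2 (by omega)
  omega

/-- S19551 -/
theorem exists_bijective_combination_two_arrows [IsAlgClosed K] (f : Fin 2 → (V →ₗ[K] W))
    (k : ℕ) (hV : finrank K V = k) (hW : finrank K W = k) (hf : IsSemistable f) :
    ∃ z : Fin 2 → K, Function.Bijective (comb f z) := by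
  classical
  by_contra hcon
  simp only [not_exists] at hcon
  have hni : ∀ z, ¬ Function.Injective (comb f z) := fun z hi =>
    hcon z ⟨hi, (LinearMap.injective_iff_surjective_of_finrank_eq_finrank
      (hV.trans hW.symm)).mp hi⟩
  have hk : 1 ≤ k := by have := hf.1; omega
  let bV : Basis (Fin k) K V := Module.finBasisOfFinrankEq K V hV
  let bW : Basis (Fin k) K W := Module.finBasisOfFinrankEq K W hW
  let A : Fin 2 → Matrix (Fin k) (Fin k) K := fun j => LinearMap.toMatrix bV bW (f j)
  -- all determinants vanish
  have hdet : ∀ t : K, (A 0 + t • A 1).det = 0 := by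
    intro t
    by_contra hne
    apply hni ![1, t]
    have hcomb : comb f ![1, t] = f 0 + t • f 1 := by
      unfold comb
      rw [Fin.sum_univ_two]
      simp
    rw [hcomb, injective_iff_map_eq_zero]
    intro y hy
    have h1 := LinearMap.toMatrix_mulVec_repr bV bW (f 0 + t • f 1) y
    rw [hy, map_zero, map_add, map_smul] at h1
    have h2 := Matrix.eq_zero_of_mulVec_eq_zero hne h1
    have h3 : bV.repr y = 0 := by
      ext a
      exact congrFun h2 a
    exact (LinearEquiv.map_eq_zero_iff _).mp h3
  -- the polynomial matrix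
  let MP : Matrix (Fin k) (Fin k) K[X] := (A 0).map C + (X : K[X]) • (A 1).map C
  have hMP : MP.det = 0 := by
    apply Polynomial.funext
    intro t
    rw [eval_zero]
    have h1 : eval t MP.det = ((evalRingHom t).mapMatrix MP).det := by
      rw [← RingHom.map_det]; rfl
    rw [h1]
    have h2 : (evalRingHom t).mapMatrix MP = A 0 + t • A 1 := by
      ext a b
      simp [MP, Matrix.map_apply]
      exact mul_comm _ _
    rw [h2]
    exact hdet t
  obtain ⟨v, hv, hMv⟩ := Matrix.exists_mulVec_eq_zero_iff.mpr hMP
  -- coefficients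
  let c : ℕ → Fin k → K := fun i a => (v a).coeff i
  let x : ℕ → V := fun i => bV.equivFun.symm (c i)
  have hrepr : ∀ i, ⇑(bV.repr (x i)) = c i := by
    intro i
    have := bV.equivFun.apply_symm_apply (c i)
    rw [Basis.equivFun_apply] at this
    exact this
  have hrow : ∀ b : Fin k, ∑ a, (C (A 0 b a) + X * C (A 1 b a)) * v a = 0 := by
    intro b
    have := congrFun hMv b
    simpa [MP, Matrix.mulVec, dotProduct, Matrix.map_apply] using this
  have hc0 : A 0 *ᵥ c 0 = 0 := by
    funext b
    have := congrArg (fun p => coeff p 0) (hrow b)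
    simp only [finsetSum_coeff, coeff_zero] at this
    refine Eq.trans ?_ this
    simp only [Matrix.mulVec, dotProduct]
    refine Finset.sum_congr rfl fun a _ => ?_
    rw [add_mul, coeff_add, coeff_C_mul, mul_assoc, coeff_X_mul_zero, add_zero]
  have hcs : ∀ i, A 0 *ᵥ c (i + 1) + A 1 *ᵥ c i = 0 := by
    intro i
    funext b
    have := congrArg (fun p => coeff p (i + 1)) (hrow b)
    simp only [finsetSum_coeff, coeff_zero] at this
    refine Eq.trans ?_ this
    simp only [Matrix.mulVec, dotProduct, Pi.add_apply]
    rw [← Finset.sum_add_distrib]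
    refine Finset.sum_congr rfl fun a _ => ?_
    rw [add_mul, coeff_add, coeff_C_mul, mul_assoc, coeff_X_mul, coeff_C_mul]
  have hreprinj : ∀ w : W, ⇑(bW.repr w) = 0 → w = 0 := by
    intro w hw
    have : bW.repr w = 0 := by
      ext a
      exact congrFun hw a
    exact (LinearEquiv.map_eq_zero_iff _).mp this
  have h0 : f 0 (x 0) = 0 := by
    apply hreprinj
    rw [← LinearMap.toMatrix_mulVec_repr bV bW (f 0) (x 0), hrepr]
    exact hc0
  have hs : ∀ i, f 0 (x (i + 1)) + f 1 (x i) = 0 := by
    intro i
    apply hreprinj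
    rw [map_add, Finsupp.coe_add, ← LinearMap.toMatrix_mulVec_repr bV bW (f 0) (x (i + 1)),
      ← LinearMap.toMatrix_mulVec_repr bV bW (f 1) (x i), hrepr, hrepr]
    exact hcs i
  have hx : ∃ m, x m ≠ 0 := by
    by_contra hall
    simp only [not_exists, not_not] at hall
    apply hv
    funext a
    ext m
    have h1 := hrepr m
    rw [hall m, map_zero] at h1
    have := congrFun h1 a
    simp only [Finsupp.coe_zero, Pi.zero_apply] at this
    rw [Pi.zero_apply, coeff_zero]
    exact this.symm
  exact not_isSemistable_of_chain f k hk hV hW x h0 hs hx hf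

end Groth.Agent.Helper7.Kron
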